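import Groth.Agent.Deform.Borel.CentBase
import Groth.Agent.Deform.Borel.ImageCartan
import Groth.Agent.Deform.Luna.MaxTorusConj
import Groth.Agent.GrpSchLib.MultTypeComm
import Groth.Prelude.Def_SGA3x

/-!
# Cartan subgroups of a subgroup containing a Cartan subgroup (XII 7.9)
-/

set_option autoImplicit false
set_option linter.style.haveILetI false
set_option linter.unusedSectionVars false
set_option backward.isDefEq.respectTransparency false
set_option backward.isDefEq.respectTransparency.types false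

universe u

open CategoryTheory CategoryTheory.Limits MonoidalCategory CartesianMonoidalCategory AlgebraicGeometry

open scoped MonObj

attribute [local instance] CategoryTheory.Hom.monoid CategoryTheory.Hom.group

namespace Groth.Agent.Deform.CartanNorm

open Borel in
/-- A Cartan subgroup of a subgroup containing a Cartan subgroup is one of the ambient group, and conversely. -/
theorem isCartanOver_comp_iff {k : Type u} [Field k] [IsAlgClosed k] {G H C C' : Over (Spec (CommRingCat.of k))}
    [GrpObj G] [GrpObj H] [GrpObj C] [GrpObj C'] [Smooth G.hom] [QuasiCompact G.hom] [Smooth H.hom]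
    [QuasiCompact H.hom] (i : H ⟶ G) [IsMonHom i] [Mono i] (c' : C' ⟶ H)
    (hC' : SGA3x.IsCartanOver k (c' ≫ i)) (c : C ⟶ H) :
    SGA3x.IsCartanOver k c ↔ SGA3x.IsCartanOver k (c ≫ i) := by
  constructor
  · rintro ⟨hcm, hcmo, T', gT', t', ht', hc⟩
    haveI := hcm; haveI := hcmo
    obtain ⟨-, -, T, gT, t, ht, hC⟩ := hC'
    have htG := isMaxTorus_of_isMaximalTorus ht
    have htH' := isMaxTorus_of_isMaximalTorus ht'
    haveI := ht.1; haveI := ht.2.1; haveI := ht'.1; haveI := ht'.2.1
    obtain ⟨a, ha⟩ := (hC.2.2 T t).mpr fun X x h => by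
      rw [← MonObj.mul_comp, ← MonObj.mul_comp,
        GrpSchLib.MultTypeComm.points_comm (Deform.isMultTypeFT_of_isTorus ht.2.2.1) x h]
    haveI : IsMonHom (a ≫ c') := Deform.isMonHom_of_comp (a ≫ c') i (i := t) (by rw [Category.assoc, ha])
    haveI : Mono ((a ≫ c') ≫ i) := by rw [Category.assoc, ha]; infer_instance
    haveI : Mono (a ≫ c') := mono_of_mono _ i
    have hmH : AGF.IsMaxTorus (a ≫ c') := ⟨inferInstance, inferInstance, ht.2.2.1, fun T'' _ j _ _ f₀ h1 h2 =>
      htG.2.2.2 T'' (j ≫ i) f₀ h1 (by rw [← Category.assoc, h2, Category.assoc, ha])⟩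
    obtain ⟨g, f, hf, hfe⟩ := Luna.conj_maxTorus (a ≫ c') t' hmH htH'
    haveI := hf
    let gG : Chev.Pt G := g ≫ i
    have hcv : i ≫ conj gG = conj g ≫ i := by
      simp only [gG, conj, MonObj.mul_comp, GrpObj.inv_comp, MonObj.comp_mul, GrpObj.comp_inv, Category.assoc,
        Category.id_comp, Category.comp_id, ← Category.assoc i (toUnit G), comp_toUnit]
    have e1 : f.hom ≫ t' ≫ i = t ≫ conj gG := by
      rw [← ha, Category.assoc, Category.assoc, hcv, ← Category.assoc f.hom, hfe, ← comp_conj]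
      simp only [Category.assoc]
    refine ⟨inferInstance, mono_comp _ _, T', gT', t' ≫ i, isMaximalTorus_of_isMaxTorus
      ⟨inferInstance, mono_comp _ _, ht'.2.2.1, fun T'' _ j _ _ f₀ h1 h2 => ?_⟩, ⟨inferInstance, mono_comp _ _,
      fun X y => ⟨?_, fun hy => ?_⟩⟩⟩
    · haveI : Mono (conj gG⁻¹) := IsSplitMono.mono _ (hf := IsSplitMono.mk' ⟨conj gG, by
        have := conj_right_inv gG⁻¹
        rwa [_root_.inv_inv] at this⟩)
      haveI := htG.2.2.2 T'' (j ≫ conj gG⁻¹) (f.hom ≫ f₀) h1 (by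
        rw [Category.assoc, reassoc_of% h2, reassoc_of% e1, conj_right_inv, Category.comp_id])
      exact IsIso.of_isIso_comp_left f.hom f₀
    · rintro ⟨z, rfl⟩ X' x h
      have h1 := congrArg (fun m => m ≫ i) ((hc.2.2 X (z ≫ c)).mp ⟨z, rfl⟩ X' x h)
      simpa only [MonObj.mul_comp, Category.assoc] using h1
    · -- the conjugate point lies in `H`
      obtain ⟨z, hz⟩ := (hC.2.2 X ((toUnit X ≫ gG)⁻¹ * y * (toUnit X ≫ gG))).mpr fun X' x h => by
        have h1 := hy X' x (h ≫ f.hom)
        rw [Category.assoc, e1, ← Category.assoc, comp_conj] at h1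
        simp only [AGF.conjBy, MonObj.comp_mul, GrpObj.comp_inv, comp_toUnit_assoc] at h1 ⊢
        generalize toUnit X' ≫ gG = G₀ at h1 ⊢
        rw [show G₀⁻¹ * (x ≫ y) * G₀ * (h ≫ t) = G₀⁻¹ * ((x ≫ y) * (G₀ * (h ≫ t) * G₀⁻¹)) * G₀ by group, h1]
        group
      have hy' : ((toUnit X ≫ g) * (z ≫ c') * (toUnit X ≫ g)⁻¹) ≫ i = y := by
        rw [MonObj.mul_comp, MonObj.mul_comp, GrpObj.inv_comp, Category.assoc, Category.assoc, hz]
        simp only [gG]
        group
      obtain ⟨w, hw⟩ := (hc.2.2 X ((toUnit X ≫ g) * (z ≫ c') * (toUnit X ≫ g)⁻¹)).mpr fun X' x h => by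
        rw [← cancel_mono i, MonObj.mul_comp, MonObj.mul_comp, Category.assoc, Category.assoc, hy']
        exact hy X' x h
      exact ⟨w, by rw [reassoc_of% hw, hy']⟩
  · rintro ⟨hcm, hcmo, T, gT, t, ht, hc⟩
    haveI := hcm; haveI := hcmo
    haveI : IsMonHom c := Deform.isMonHom_of_comp c i (i := c ≫ i) rfl
    haveI : Mono c := mono_of_mono c i
    haveI := ht.1; haveI := ht.2.1
    obtain ⟨a, ha⟩ := (hc.2.2 T t).mpr fun X x h => by
      rw [← MonObj.mul_comp, ← MonObj.mul_comp,
        GrpSchLib.MultTypeComm.points_comm (Deform.isMultTypeFT_of_isTorus ht.2.2.1) x h]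
    have htG := isMaxTorus_of_isMaximalTorus ht
    haveI : IsMonHom (a ≫ c) := Deform.isMonHom_of_comp (a ≫ c) i (i := t) (by rw [Category.assoc, ha])
    haveI : Mono ((a ≫ c) ≫ i) := by rw [Category.assoc, ha]; infer_instance
    haveI : Mono (a ≫ c) := mono_of_mono _ i
    refine ⟨inferInstance, inferInstance, T, gT, a ≫ c, isMaximalTorus_of_isMaxTorus
      ⟨inferInstance, inferInstance, ht.2.2.1, fun T'' _ j _ _ f₀ h1 h2 =>
      htG.2.2.2 T'' (j ≫ i) f₀ h1 (by rw [← Category.assoc, h2, Category.assoc, ha])⟩,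
      ⟨inferInstance, inferInstance, fun X y => ?_⟩⟩
    have h0 : (∃ z : X ⟶ C, z ≫ c = y) ↔ ∃ z : X ⟶ C, z ≫ c ≫ i = y ≫ i := by
      simp only [← Category.assoc _ c i, cancel_mono]
    rw [h0, hc.2.2 X (y ≫ i)]
    refine forall_congr' fun X' => forall_congr' fun x => forall_congr' fun h => ?_
    rw [← cancel_mono i (g := (x ≫ y) * _), MonObj.mul_comp, MonObj.mul_comp]
    simp only [Category.assoc, ha]

/-- Cartan subgroups of a subgroup scheme containing Cartan subgroups on the geometric fibres. -/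
theorem isCartan_comp_iff {S : Scheme.{u}} {G H C : Over S} [GrpObj G] [GrpObj H] [GrpObj C]
    [Smooth G.hom] [QuasiCompact G.hom] [Smooth H.hom] [QuasiCompact H.hom] (i : H ⟶ G) [IsMonHom i] [Mono i]
    (hHC : ∀ s : S, ∃ (C' : Over (Spec (CommRingCat.of (AlgebraicClosure (S.residueField s))))) (_ : GrpObj C')
      (c' : C' ⟶ Red.geomFibre s H), SGA3x.IsCartanOver _ (c' ≫ (Over.pullback (Red.geomPt s)).map i))
    (c : C ⟶ H) : SGA3x.IsCartan c ↔ SGA3x.IsCartan (c ≫ i) := by
  have key : ∀ s : S, SGA3x.IsCartanOver _ ((Over.pullback (Red.geomPt s)).map c) ↔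
      SGA3x.IsCartanOver _ ((Over.pullback (Red.geomPt s)).map (c ≫ i)) := fun s => by
    obtain ⟨C', _, c', hC'⟩ := hHC s
    haveI : Smooth ((Over.pullback (Red.geomPt s)).obj G).hom :=
      MorphismProperty.pullback_snd (P := @Smooth) G.hom _ inferInstance
    haveI : Smooth ((Over.pullback (Red.geomPt s)).obj H).hom :=
      MorphismProperty.pullback_snd (P := @Smooth) H.hom _ inferInstance
    haveI : QuasiCompact ((Over.pullback (Red.geomPt s)).obj G).hom :=
      MorphismProperty.pullback_snd (P := @QuasiCompact) G.hom _ inferInstance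
    haveI : QuasiCompact ((Over.pullback (Red.geomPt s)).obj H).hom :=
      MorphismProperty.pullback_snd (P := @QuasiCompact) H.hom _ inferInstance
    rw [Functor.map_comp]
    exact isCartanOver_comp_iff ((Over.pullback (Red.geomPt s)).map i) c' hC' _
  constructor
  · rintro ⟨hm, hmo, hs, hf⟩
    exact ⟨inferInstance, mono_comp _ _, hs, fun s => (key s).mp (hf s)⟩
  · rintro ⟨hm, hmo, hs, hf⟩
    exact ⟨Deform.isMonHom_of_comp c i (i := c ≫ i) rfl, mono_of_mono c i, hs, fun s => (key s).mpr (hf s)⟩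

end Groth.Agent.Deform.CartanNorm
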