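import Groth.Agent.Deform.Borel.CentBase
import Groth.Agent.Deform.Nilpotent
import Groth.Agent.Deform.Transporter
import Groth.Agent.GrpSchLib.MultTypeComm
import Groth.Prelude.Def_SGA3x
import Mathlib.AlgebraicGeometry.Morphisms.FlatMono

/-!
# A smooth subgroup containing a Cartan subgroup is open in its normalizer (XII 7.9)
-/

set_option autoImplicit false
set_option linter.style.haveILetI false
set_option linter.unusedSectionVars false
set_option backward.isDefEq.respectTransparency false
set_option backward.isDefEq.respectTransparency.types false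

universe u

open CategoryTheory CategoryTheory.Limits MonoidalCategory CartesianMonoidalCategory AlgebraicGeometry

open scoped MonObj

attribute [local instance] CategoryTheory.Hom.monoid CategoryTheory.Hom.group

namespace Groth.Agent.Deform.CartanNorm

/-- Normalizers commute with base change. -/
theorem isNormalizerOf_bc {S T : Scheme.{u}} (b : T ⟶ S) {H G N : Over S} [GrpObj H] [GrpObj G] [GrpObj N]
    {i : H ⟶ G} {j : N ⟶ G} (hj : Red.IsNormalizerOf i j) :
    Red.IsNormalizerOf ((Over.pullback b).map i) ((Over.pullback b).map j) := by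
  obtain ⟨hm, hmo, hu⟩ := hj
  haveI := hm; haveI := hmo
  refine ⟨inferInstance, inferInstance, fun X g => ?_⟩
  have h1 : (∃ z : X ⟶ Red.bc b N, z ≫ (Over.pullback b).map j = g) ↔ ∃ z, z ≫ j = DSPtsLib.theta b g := by
    constructor
    · rintro ⟨z, rfl⟩
      exact ⟨DSPtsLib.theta b z, (theta_map' b z j).symm⟩
    · rintro ⟨z, hz⟩
      obtain ⟨z', rfl⟩ := (DSPtsLib.theta_bijective b).surjective z
      exact ⟨z', (DSPtsLib.theta_bijective b).injective ((theta_map' b z' j).trans hz)⟩
  refine h1.trans ((hu _ _).trans ⟨fun h X' x w => ?_, fun h X' x w => ?_⟩)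
  · obtain ⟨⟨a, ha⟩, ⟨c, hc⟩⟩ := h _ ((Over.map b).map x) (DSPtsLib.theta b w)
    obtain ⟨a', rfl⟩ := (DSPtsLib.theta_bijective b).surjective a
    obtain ⟨c', rfl⟩ := (DSPtsLib.theta_bijective b).surjective c
    refine ⟨⟨a', (DSPtsLib.theta_bijective b).injective ?_⟩, ⟨c', (DSPtsLib.theta_bijective b).injective ?_⟩⟩
    · rw [DSPtsLib.theta_mul, DSPtsLib.theta_mul, theta_inv, theta_map', theta_map', DSPtsLib.theta_comp]
      exact ha
    · rw [DSPtsLib.theta_mul, DSPtsLib.theta_mul, theta_inv, theta_map', theta_map', DSPtsLib.theta_comp]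
      exact hc
  · obtain ⟨Y, y, e, rfl⟩ := exists_pullPoint b X' x
    obtain ⟨w', hw'⟩ := (DSPtsLib.theta_bijective b).surjective (e.inv ≫ w)
    have hw : w = e.hom ≫ DSPtsLib.theta b w' := by rw [hw', Iso.hom_inv_id_assoc]
    obtain ⟨⟨a, ha⟩, ⟨c, hc⟩⟩ := h Y y w'
    have h2 := congrArg (fun m => e.hom ≫ DSPtsLib.theta b m) ha
    have h3 := congrArg (fun m => e.hom ≫ DSPtsLib.theta b m) hc
    simp only [DSPtsLib.theta_mul, theta_inv, theta_map'] at h2 h3
    simp only [DSPtsLib.theta_comp, MonObj.comp_mul, GrpObj.comp_inv] at h2 h3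
    refine ⟨⟨e.hom ≫ DSPtsLib.theta b a, ?_⟩, ⟨e.hom ≫ DSPtsLib.theta b c, ?_⟩⟩
    · rw [hw, Category.assoc, Category.assoc, Category.assoc]
      exact h2
    · rw [hw, Category.assoc, Category.assoc, Category.assoc]
      exact h3

variable {S : Scheme.{u}} {G H N T C : Over S} [GrpObj G] [GrpObj H] [GrpObj N] [GrpObj T] [GrpObj C]

set_option maxHeartbeats 1600000 in
/-- A smooth subgroup containing the centralizer of a subgroup of multiplicative type is open in its normalizer. -/
theorem isOpenImmersion_of_centralizer [Smooth H.hom] [LocallyOfFiniteType N.hom] (hT : SGA3x.IsMultTypeFT T)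
    (i : H ⟶ G) [IsMonHom i] [Mono i] (n : N ⟶ G) (hN : Red.IsNormalizerOf i n) (f : H ⟶ N) (hf : f ≫ n = i)
    (t : T ⟶ G) [IsMonHom t] (c : C ⟶ H) (hC : Red.IsCentralizerOf t (c ≫ i)) : IsOpenImmersion f.left := by
  haveI := hN.1
  haveI := hN.2.1
  obtain ⟨tc, htc⟩ := (hC.2.2 T t).mpr fun X' x h => by
    rw [← MonObj.mul_comp, ← MonObj.mul_comp, Groth.Agent.GrpSchLib.MultTypeComm.points_comm hT x h]
  obtain ⟨a, ha⟩ : ∃ a : T ⟶ H, a ≫ i = t := ⟨tc ≫ c, by rw [Category.assoc, htc]⟩
  haveI : IsMonHom a := WittEndoLib.isMonHom_of_mul _ fun X p q => by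
    rw [← cancel_mono i, Category.assoc, ha, MonObj.mul_comp, MonObj.mul_comp, Category.assoc, Category.assoc, ha]
  haveI : IsMonHom f := WittEndoLib.isMonHom_of_mul _ fun X p q => by
    rw [← cancel_mono n, Category.assoc, hf, MonObj.mul_comp, MonObj.mul_comp, Category.assoc, Category.assoc, hf]
  haveI : Mono (f ≫ n) := hf ▸ inferInstance
  haveI : Mono f := mono_of_mono f n
  haveI : Mono f.left := inferInstanceAs (Mono ((Over.forget S).map f))
  haveI : LocallyOfFinitePresentation f.left := by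
    haveI : LocallyOfFinitePresentation (f.left ≫ N.hom) := by rw [Over.w f]; infer_instance
    exact AlgSpPts.locallyOfFinitePresentation_of_comp f.left N.hom
  haveI : Smooth f.left := by
    refine (S1488.result f.left).mpr ⟨inferInstance, fun A _ I hI a₀ b' w => ?_⟩
    let b : Spec (CommRingCat.of A) ⟶ S := b' ≫ N.hom
    let P : Over S := (Over.map b).obj (𝟙_ (Over (Spec (CommRingCat.of A))))
    let n' : P ⟶ N := Over.homMk b' (Category.id_comp _).symm
    let P₀ : Over S := (Over.map b).obj (closedPt I)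
    let r : P₀ ⟶ P := (Over.map b).map (toUnit (closedPt I))
    have ha₀ : a₀ ≫ H.hom = Spec.map (CommRingCat.ofHom (Ideal.Quotient.mk I)) ≫ b := by
      rw [← Over.w f, ← Category.assoc, ← w, Category.assoc]
    obtain ⟨h', hh₀, hh⟩ := ((S1488.result H.hom).mp inferInstance).2 A I hI a₀ b ha₀.symm
    let h : P ⟶ H := Over.homMk h' (hh.trans (Category.id_comp _).symm)
    have hr : r ≫ h ≫ f = r ≫ n' := Over.OverMorphism.ext (by
      show Spec.map _ ≫ h' ≫ f.left = Spec.map _ ≫ b'
      rw [reassoc_of% hh₀]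
      exact w.symm)
    let ν : P ⟶ N := (h ≫ f)⁻¹ * n'
    have hν₀ : r ≫ ν ≫ n = 1 := by
      rw [← Category.assoc, MonObj.comp_mul, GrpObj.comp_inv, hr, inv_mul_cancel, MonObj.one_comp]
    -- the conjugated torus lands in `H`
    let HA := Red.bc b H
    haveI : Smooth HA.hom := MorphismProperty.pullback_snd (P := @Smooth) H.hom b inferInstance
    let TA := Red.bc b T
    let iA := (Over.pullback b).map i
    haveI : IsMonHom iA := inferInstanceAs (IsMonHom ((Over.pullback b).map i))
    haveI : Mono iA := inferInstanceAs (Mono ((Over.pullback b).map i))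
    let uH : TA ⟶ HA := (Over.pullback b).map a
    haveI : IsMonHom uH := inferInstanceAs (IsMonHom ((Over.pullback b).map a))
    obtain ⟨g, hg⟩ := (DSPtsLib.theta_bijective b).surjective (ν ≫ n)
    have conj : ∀ {Y : Over (Spec (CommRingCat.of A))} (q : Y ⟶ TA),
        DSPtsLib.theta b ((toUnit Y ≫ g) * (q ≫ uH ≫ iA) * (toUnit Y ≫ g)⁻¹) =
          ((Over.map b).map (toUnit Y) ≫ ν ≫ n) * (DSPtsLib.theta b q ≫ t) *
            ((Over.map b).map (toUnit Y) ≫ ν ≫ n)⁻¹ := fun q => by
      rw [DSPtsLib.theta_mul, DSPtsLib.theta_mul, theta_inv, ← Category.assoc q, theta_map', theta_map',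
        DSPtsLib.theta_comp, hg, Category.assoc, ha]
    obtain ⟨⟨φ', hφ'⟩, -⟩ := (hN.2.2 _ (ν ≫ n)).mp ⟨ν, rfl⟩ _ ((Over.map b).map (toUnit TA))
      (DSPtsLib.theta b (𝟙 _) ≫ a)
    obtain ⟨φ, rfl⟩ := (DSPtsLib.theta_bijective b).surjective φ'
    have hφ : φ ≫ iA = (toUnit _ ≫ g) * (uH ≫ iA) * (toUnit _ ≫ g)⁻¹ := by
      apply (DSPtsLib.theta_bijective b).injective
      have h1 := conj (𝟙 TA)
      rw [Category.id_comp] at h1
      rw [Category.assoc, ha] at hφ'
      rw [h1, theta_map', hφ']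
    haveI := isMonHom_conj (uH ≫ iA) g
    haveI : IsMonHom φ := WittEndoLib.isMonHom_of_mul _ fun X p q => by
      rw [← cancel_mono iA, Category.assoc, hφ, MonObj.mul_comp, MonObj.mul_comp, Category.assoc, Category.assoc, hφ]
    obtain ⟨e, -, he⟩ := exists_conj_nilpotent (H := TA) (G := HA) (J := I) ⟨2, hI⟩
      (locally_bc b (isMultType_of_ft hT)) uH φ 1 fun X p q => by
        rw [MonObj.comp_one, _root_.one_mul, inv_one, _root_.mul_one]
        rw [← cancel_mono iA, Category.assoc, Category.assoc, hφ]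
        simp only [MonObj.comp_mul, GrpObj.comp_inv, comp_toUnit_assoc]
        have h1 : toUnit X ≫ g = 1 := by
          apply (DSPtsLib.theta_bijective b).injective
          rw [DSPtsLib.theta_comp, hg, show toUnit X = p ≫ toUnit (closedPt I) from (comp_toUnit p).symm,
            Functor.map_comp, Category.assoc, hν₀, MonObj.comp_one]
          exact (map_one (thHom b X)).symm
        rw [h1, _root_.one_mul, inv_one, _root_.mul_one]
    -- the corrected point centralises the torus
    let ε : P ⟶ H := DSPtsLib.theta b e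
    have hcent : ∀ (X' : Over S) (x : X' ⟶ P) (τ : X' ⟶ T),
        (x ≫ ((ε ≫ i)⁻¹ * (ν ≫ n))) * (τ ≫ t) = (τ ≫ t) * (x ≫ ((ε ≫ i)⁻¹ * (ν ≫ n))) := by
      intro X' x τ
      obtain ⟨Y, y, es, rfl⟩ := exists_pullPoint b X' x
      obtain ⟨q, hq⟩ := (DSPtsLib.theta_bijective b).surjective (es.inv ≫ τ)
      have hτ : τ = es.hom ≫ DSPtsLib.theta b q := by rw [hq, Iso.hom_inv_id_assoc]
      have h1 := congrArg (fun m => DSPtsLib.theta b (m ≫ iA)) (he Y q)
      simp only [Category.assoc, hφ, MonObj.comp_mul, GrpObj.comp_inv, MonObj.mul_comp, GrpObj.inv_comp,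
        comp_toUnit_assoc] at h1
      rw [conj, DSPtsLib.theta_mul, DSPtsLib.theta_mul, theta_inv, ← Category.assoc (toUnit Y) e iA,
        theta_map', ← Category.assoc q uH iA, theta_map', theta_map', DSPtsLib.theta_comp] at h1
      simp only [Category.assoc, ha] at h1
      have key : ∀ {W U Q : (Over.map b).obj Y ⟶ G}, W * Q * W⁻¹ = U * Q * U⁻¹ → U⁻¹ * W * Q = Q * (U⁻¹ * W) := by
        intro W U Q h
        rw [_root_.mul_assoc, mul_inv_eq_iff_eq_mul.mp h]
        group
      have h2 := congrArg (es.hom ≫ ·) (key h1)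
      rw [hτ, Subsingleton.elim y (toUnit Y)]
      simp only [MonObj.comp_mul, GrpObj.comp_inv, Category.assoc] at h2 ⊢
      exact h2
    obtain ⟨z, hz⟩ := (hC.2.2 P ((ε ≫ i)⁻¹ * (ν ≫ n))).mpr hcent
    let m : P ⟶ H := h * (ε * (z ≫ c))
    have hm : m ≫ f = n' := by
      rw [← cancel_mono n, Category.assoc, hf, MonObj.mul_comp, MonObj.mul_comp, Category.assoc, hz,
        mul_inv_cancel_left, MonObj.mul_comp, GrpObj.inv_comp, Category.assoc, hf, mul_inv_cancel_left]
    refine ⟨m.left, ?_, congrArg CommaMorphism.left hm⟩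
    apply (cancel_mono f.left).mp
    rw [Category.assoc]
    exact ((congrArg (Spec.map (CommRingCat.ofHom (Ideal.Quotient.mk I)) ≫ ·) (congrArg CommaMorphism.left hm)).trans w)
  exact IsOpenImmersion.of_flat_of_mono f.left

end Groth.Agent.Deform.CartanNorm
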