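import Groth.Agent.Deform.CartanNorm.Field
import Groth.Agent.Deform.InfNbhd.Subgroups
import Groth.Agent.GrpSchLib.Neutral
import Groth.Agent.GrpSchLib.HomFibre
import Groth.Agent.FlatMisc.Fibrewise
import Groth.Agent.S16611
import Mathlib.AlgebraicGeometry.Morphisms.FlatDescent

/-!
# Smooth subgroups containing Cartan subgroups fibrewise (XII 7.9)
-/

set_option autoImplicit false
set_option linter.style.haveILetI false
set_option linter.unusedSectionVars false
set_option backward.isDefEq.respectTransparency false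
set_option backward.isDefEq.respectTransparency.types false

universe u

open CategoryTheory CategoryTheory.Limits MonoidalCategory CartesianMonoidalCategory AlgebraicGeometry

open scoped MonObj

attribute [local instance] CategoryTheory.Hom.monoid CategoryTheory.Hom.group

namespace Groth.Agent.Deform.CartanNorm

variable {S : Scheme.{u}}

theorem range_geomPt (s : S) : Set.range (Red.geomPt s) = {s} := by
  have hr := Scheme.range_fromSpecResidueField (X := S) s
  refine Set.Subset.antisymm ?_ ?_
  · rintro _ ⟨p, rfl⟩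
    rw [← hr]
    exact ⟨_, (Scheme.Hom.comp_apply _ _ p).symm⟩
  · intro x hx
    obtain ⟨p⟩ : Nonempty ↥(Spec (CommRingCat.of (AlgebraicClosure (S.residueField s)))) := inferInstance
    exact ⟨p, by rw [Scheme.Hom.comp_apply]; exact (Scheme.fromSpecResidueField_apply _ _).trans hx.symm⟩

theorem range_fst_geomPt (H : Over S) (s : S) :
    Set.range (pullback.fst H.hom (Red.geomPt s)) = H.hom.base ⁻¹' {s} := by
  rw [Scheme.Pullback.range_fst, range_geomPt]

/-- A smooth group scheme with connected geometric fibres has connected fibres. -/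
theorem neutralSet_eq_univ_geom (H : Over S) [GrpObj H]
    (hH : ∀ s : S, ConnectedSpace ↥(Red.geomFibre s H).left) : SGA3x.neutralSet H = Set.univ :=
  InfNbhd.neutralSet_eq_univ H fun s => by
    haveI : ConnectedSpace ↥(pullback H.hom (Red.geomPt s)) := hH s
    have := isConnected_range (pullback.fst H.hom (Red.geomPt s)).continuous
    rwa [range_fst_geomPt] at this

theorem quasiCompact_of_neutralSet (H : Over S) [GrpObj H] [LocallyOfFinitePresentation H.hom]
    (hH : SGA3x.neutralSet H = Set.univ) : QuasiCompact H.hom := by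
  choose V C hsV hV hC hCV hNC using GrpSchLib.Neutral.exists_compact H
  refine IsZariskiLocalAtTarget.of_iSup_eq_top (P := @QuasiCompact) V ?_ fun s => ?_
  · exact eq_top_iff.mpr fun s _ => TopologicalSpace.Opens.mem_iSup.mpr ⟨s, hsV s⟩
  · haveI : IsAffine (V s).toScheme := hV s
    have he : H.hom.base ⁻¹' (V s : Set S) = C s :=
      Set.Subset.antisymm (fun x hx => hNC s ⟨by rw [hH]; trivial, hx⟩) (hCV s)
    haveI : CompactSpace ↥(H.hom ⁻¹ᵁ V s).toScheme := isCompact_iff_compactSpace.mp (show IsCompact (H.hom.base ⁻¹' (V s : Set S)) by rw [he]; exact hC s)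
    exact (quasiCompact_iff_compactSpace _).mpr inferInstance

set_option maxHeartbeats 1600000 in
/-- The normalizer of a smooth subgroup containing Cartan subgroups on the geometric fibres. -/
theorem exists_normalizer_openImmersion {G : Over S} [GrpObj G]
    [Smooth G.hom] [QuasiCompact G.hom] [QuasiSeparated G.hom]
    (H : Over S) [GrpObj H] [Smooth H.hom] (i : H ⟶ G) [IsMonHom i] [Mono i]
    (hHconn : ∀ s : S, ConnectedSpace ↥(Red.geomFibre s H).left)
    (hHC : ∀ s : S, ∃ (C' : Over (Spec (CommRingCat.of (AlgebraicClosure (S.residueField s))))) (_ : GrpObj C')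
      (c' : C' ⟶ Red.geomFibre s H), SGA3x.IsCartanOver _ (c' ≫ (Over.pullback (Red.geomPt s)).map i)) :
    ∃ (N : Over S) (_ : GrpObj N) (n : N ⟶ G) (f : H ⟶ N), Red.IsNormalizerOf i n ∧ IsClosedImmersion n.left ∧
      QuasiCompact N.hom ∧ LocallyOfFinitePresentation N.hom ∧ f ≫ n = i ∧ IsOpenImmersion f.left := by
  have hN0 := neutralSet_eq_univ_geom H hHconn
  haveI : QuasiCompact H.hom := quasiCompact_of_neutralSet H hN0
  haveI : Mono i.left := inferInstanceAs (Mono ((Over.forget S).map i))
  haveI : QuasiSeparated H.hom := by rw [← Over.w i]; infer_instance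
  obtain ⟨N, str, n, hn, hnc, hnf⟩ := InfNbhd.exists_normalizer' G H hN0 i
  haveI := hn.1
  haveI := hn.2.1
  haveI := hnc
  haveI := hnf
  haveI : QuasiCompact N.hom := by rw [← Over.w n]; infer_instance
  haveI : LocallyOfFinitePresentation N.hom := by rw [← Over.w n]; infer_instance
  obtain ⟨f, hf⟩ := (hn.2.2 H i).mpr fun X' x h =>
    ⟨⟨x * h * x⁻¹, by rw [MonObj.mul_comp, MonObj.mul_comp, GrpObj.inv_comp]⟩,
      ⟨x⁻¹ * h * x, by rw [MonObj.mul_comp, MonObj.mul_comp, GrpObj.inv_comp]⟩⟩
  refine ⟨N, str, n, f, hn, hnc, inferInstance, inferInstance, hf, ?_⟩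
  haveI : LocallyOfFinitePresentation (f.left ≫ N.hom) := by rw [Over.w f]; infer_instance
  haveI : Flat (f.left ≫ N.hom) := by rw [Over.w f]; infer_instance
  refine FlatMisc.isOpenImmersion_of_fibres N.hom f.left fun s => ?_
  obtain ⟨C', _, c', -, -, T, _, t, ⟨ht, -, hT, -⟩, hC⟩ := hHC s
  let b := Red.geomPt s
  haveI : Smooth ((Over.pullback b).obj H).hom :=
    MorphismProperty.pullback_snd (P := @Smooth) H.hom b inferInstance
  haveI : LocallyOfFiniteType ((Over.pullback b).obj N).hom :=
    MorphismProperty.pullback_snd (P := @LocallyOfFiniteType) N.hom b inferInstance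
  haveI := ht
  haveI hJ : IsOpenImmersion ((Over.pullback b).map f).left :=
    isOpenImmersion_of_centralizer (S16611.isMultTypeFT hT) ((Over.pullback b).map i) ((Over.pullback b).map n)
      (isNormalizerOf_bc b hn) ((Over.pullback b).map f) (by rw [← Functor.map_comp, hf]) t c' hC
  have hsq := GrpSchLib.HomFibre.map_isPullback f b
  haveI hJ' : IsOpenImmersion (pullback.snd f.left (pullback.fst N.hom b)) := by
    rw [← hsq.isoPullback_inv_snd]
    infer_instance
  let a := Spec.map (CommRingCat.ofHom (algebraMap (S.residueField s) (AlgebraicClosure (S.residueField s))))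
  let e := pullbackLeftPullbackSndIso N.hom (S.fromSpecResidueField s) a
  let q := pullback.fst (pullback.snd N.hom (S.fromSpecResidueField s)) a
  have hq : q ≫ N.hom.fiberι s = e.hom ≫ pullback.fst N.hom b :=
    (pullbackLeftPullbackSndIso_hom_fst N.hom (S.fromSpecResidueField s) a).symm
  haveI : Surjective a := ⟨fun x => ⟨default, Subsingleton.elim _ _⟩⟩
  haveI : Flat a := Flat.SpecMap_iff.mpr (RingHom.flat_algebraMap_iff.mpr inferInstance)
  haveI : QuasiCompact a := inferInstance
  refine MorphismProperty.of_pullback_snd_of_descendsAlong (P := @IsOpenImmersion)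
    (Q := @Surjective ⊓ @Flat ⊓ @QuasiCompact) (f := pullback.snd f.left (N.hom.fiberι s)) (g := q)
    ⟨⟨inferInstance, inferInstance⟩, inferInstance⟩ ?_
  rw [← pullbackLeftPullbackSndIso_hom_snd f.left (N.hom.fiberι s) q,
    MorphismProperty.cancel_left_of_respectsIso (P := @IsOpenImmersion)]
  suffices key : ∀ g' : _ ⟶ N.left, g' = e.hom ≫ pullback.fst N.hom b → IsOpenImmersion (pullback.snd f.left g') from
    key _ hq
  rintro _ rfl
  haveI : IsOpenImmersion (pullback.snd (pullback.snd f.left (pullback.fst N.hom b)) e.hom) := inferInstance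
  rwa [← pullbackLeftPullbackSndIso_hom_snd f.left (pullback.fst N.hom b) e.hom,
    MorphismProperty.cancel_left_of_respectsIso (P := @IsOpenImmersion)] at this

/-- Central subgroups lie in a subgroup containing Cartan subgroups on the geometric fibres. -/
theorem exists_factor_of_central {G : Over S} [GrpObj G]
    [Smooth G.hom] [QuasiCompact G.hom] [QuasiSeparated G.hom]
    (H : Over S) [GrpObj H] [Smooth H.hom] (i : H ⟶ G) [IsMonHom i] [Mono i]
    (hHconn : ∀ s : S, ConnectedSpace ↥(Red.geomFibre s H).left)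
    (hHC : ∀ s : S, ∃ (C' : Over (Spec (CommRingCat.of (AlgebraicClosure (S.residueField s))))) (_ : GrpObj C')
      (c' : C' ⟶ Red.geomFibre s H), SGA3x.IsCartanOver _ (c' ≫ (Over.pullback (Red.geomPt s)).map i))
    (Z : Over S) (z : Z ⟶ G)
    (hc : ∀ (X : Over S) (x : X ⟶ Z) (g : X ⟶ G), (x ≫ z) * g = g * (x ≫ z)) : ∃ f : Z ⟶ H, f ≫ i = z := by
  obtain ⟨N, str, n, f, hn, hnc, -, -, hf, hfo⟩ := exists_normalizer_openImmersion H i hHconn hHC
  haveI := hn.2.1
  haveI := hnc
  haveI := hfo
  obtain ⟨g, hg⟩ := (hn.2.2 Z z).mpr fun X' x h =>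
    ⟨⟨h, by rw [hc, mul_inv_cancel_right]⟩, ⟨h, by rw [_root_.mul_assoc, ← hc, inv_mul_cancel_left]⟩⟩
  have hrange : Set.range g.left ⊆ Set.range f.left := by
    rintro _ ⟨y, rfl⟩
    obtain ⟨C', _, c', -, -, T, _, t, -, hC⟩ := hHC (Z.hom y)
    let b := Red.geomPt (Z.hom y)
    obtain ⟨d, hd⟩ := (hC.2.2 _ ((Over.pullback b).map z)).mpr fun X' x h => by
      apply (DSPtsLib.theta_bijective b).injective
      rw [DSPtsLib.theta_mul, DSPtsLib.theta_mul, theta_map']
      exact hc _ _ _
    obtain ⟨y', hy'⟩ : y ∈ Set.range (pullback.fst Z.hom b) := by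
      rw [range_fst_geomPt]
      rfl
    have h1 : ((d ≫ c').left ≫ pullback.fst H.hom b) ≫ f.left = pullback.fst Z.hom b ≫ g.left := by
      rw [← cancel_mono n.left, Category.assoc, Category.assoc, Category.assoc,
        show f.left ≫ n.left = i.left from congrArg CommaMorphism.left hf,
        show g.left ≫ n.left = z.left from congrArg CommaMorphism.left hg,
        ← show ((Over.pullback b).map i).left ≫ pullback.fst G.hom b = pullback.fst H.hom b ≫ i.left from
          pullback.lift_fst _ _ _,
        ← show ((Over.pullback b).map z).left ≫ pullback.fst G.hom b = pullback.fst Z.hom b ≫ z.left from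
          pullback.lift_fst _ _ _,
        ← hd]
      simp only [Over.comp_left, Category.assoc]
      rfl
    refine ⟨((d ≫ c').left ≫ pullback.fst H.hom b) y', ?_⟩
    rw [← Scheme.Hom.comp_apply, h1, Scheme.Hom.comp_apply]
    exact congrArg g.left hy'
  refine ⟨Over.homMk (IsOpenImmersion.lift f.left g.left hrange) ?_, ?_⟩
  · rw [← Over.w f, IsOpenImmersion.lift_fac_assoc, Over.w g]
  · rw [← hg, ← hf, ← Category.assoc]
    congr 1
    exact Over.OverMorphism.ext (IsOpenImmersion.lift_fac _ _ _)

end Groth.Agent.Deform.CartanNorm
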