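import Groth.Agent.Deform.Borel.CentBase
import Groth.Agent.Deform.Borel.Tori
import Groth.Agent.Deform.Luna.Centre
import Groth.Agent.Deform.Luna.MaxTorusFactor
import Groth.Agent.Deform.Extension
import Groth.Agent.GrpSchLib.FibreDimGrp
import Groth.Agent.GrpSchLib.HomFibre
import Groth.Agent.FlatMisc.Fibrewise
import Groth.Agent.S10839
import Groth.Agent.S0348

/-!
# A torus maximal in a reductive fibre is its own centralizer nearby (XIX 2.4)
-/

set_option autoImplicit false
set_option linter.style.haveILetI false
set_option linter.unusedSectionVars false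
set_option backward.isDefEq.respectTransparency false
set_option backward.isDefEq.respectTransparency.types false

universe u

open CategoryTheory CategoryTheory.Limits MonoidalCategory CartesianMonoidalCategory AlgebraicGeometry

open scoped MonObj

attribute [local instance] CategoryTheory.Hom.monoid CategoryTheory.Hom.group

namespace Groth.Agent.Deform.CartanNorm

variable {S : Scheme.{u}}

/-- A monomorphic homomorphism into a connected smooth group of the same dimension is an isomorphism. -/
theorem isIso_of_dim_eq {k : Type u} [Field k] {T Z : Over (Spec (CommRingCat.of k))} [GrpObj T] [GrpObj Z]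
    [Smooth Z.hom] [ConnectedSpace Z.left] [LocallyOfFiniteType T.hom] [QuasiCompact T.hom] (f : T ⟶ Z) [IsMonHom f]
    [Mono f] (hfin : topologicalKrullDim ↥Z.left ≠ ⊤) (h : topologicalKrullDim ↥Z.left = topologicalKrullDim ↥T.left) :
    IsIso f := by
  haveI := Borel.isClosedImmersion_of_mono f
  haveI : IrreducibleSpace Z.left := S0348.result k Z
  haveI : IsReduced Z.left := GrpSchLib.isReduced_of_smooth_field Z.hom
  haveI : IsIntegral Z.left := isIntegral_of_irreducibleSpace_of_isReduced Z.left
  haveI : Surjective f.left := ⟨S10839.surjective_of_dim_eq f.left.isClosedEmbedding hfin h⟩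
  haveI := isIso_of_isClosedImmersion_of_surjective f.left
  haveI : IsIso ((Over.forget _).map f) := ‹IsIso f.left›
  exact isIso_of_reflects_iso f (Over.forget _)

set_option maxHeartbeats 1600000 in
/-- **A torus which is maximal in a reductive geometric fibre is its own centralizer, hence maximal, nearby.** -/
theorem exists_nhd_selfCentralizing {G T Z : Over S} [GrpObj G] [GrpObj T] [GrpObj Z] [Smooth G.hom]
    [IsAffineHom G.hom] (hconn : ∀ s : S, _root_.IsConnected (G.hom.base ⁻¹' {s}))
    (i : T ⟶ G) [IsMonHom i] [Mono i] (hT : Red.IsTorus T) (z : Z ⟶ G) (hz : Red.IsCentralizerOf i z)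
    (f : T ⟶ Z) (hf : f ≫ z = i) (s : S)
    (hs : Red.IsReductiveOver (AlgebraicClosure (S.residueField s)) (Red.geomFibre s G))
    (hTs : Red.IsMaximalTorus ((Over.pullback (Red.geomPt s)).map i)) :
    ∃ U : S.Opens, s ∈ U ∧ IsIso ((Over.pullback U.ι).map f) ∧ Red.IsMaximalTorus ((Over.pullback U.ι).map i) := by
  haveI := hz.1
  haveI : Mono z := hz.2.1
  haveI : Mono (f ≫ z) := hf ▸ inferInstance
  haveI : Mono f := mono_of_mono f z
  haveI : IsMonHom f := Deform.isMonHom_of_comp f z (i := i) hf
  obtain ⟨hzc, hZs⟩ := Borel.centralizer_smooth hT hz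
  haveI := hzc; haveI := hZs
  haveI : QuasiCompact G.hom := inferInstance
  haveI : IsAffineHom Z.hom := by rw [← Over.w z]; infer_instance
  have hTm := Deform.isMultTypeFT_of_isTorus hT
  haveI : LocallyOfFinitePresentation T.hom := MultTypeFlat.lfp hTm
  haveI : IsAffineHom T.hom := (TransLib.multTypeFT_essFree hTm).1
  haveI : Flat T.hom := MultTypeFlat.flat hTm
  -- the dimensions are locally constant
  let dT : S → WithBot ℕ∞ := fun t => topologicalKrullDim ↥(T.hom ⁻¹' {t})
  let dZ : S → WithBot ℕ∞ := fun t => topologicalKrullDim ↥(Z.hom ⁻¹' {t})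
  let U : S.Opens := ⟨{t | dT t = dT s} ∩ {t | dZ t = dZ s},
    ((GrpSchLib.FibreDimGrp.isLocallyConstant T).isOpen_fiber _).inter
      ((GrpSchLib.FibreDimGrp.isLocallyConstant Z).isOpen_fiber _)⟩
  -- residue fibres and geometric fibres
  have hgeo : ∀ t : S, IsIso ((Over.pullback (S.fromSpecResidueField t)).map f) ↔
      IsIso ((Over.pullback (Red.geomPt t)).map f) := by
    intro t
    let a := Spec.map (CommRingCat.ofHom (algebraMap (S.residueField t) (AlgebraicClosure (S.residueField t))))
    rw [NatIso.isIso_map_iff (Over.pullbackComp a (S.fromSpecResidueField t)) f]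
    refine ⟨fun h => inferInstanceAs (IsIso ((Over.pullback a).map ((Over.pullback (S.fromSpecResidueField t)).map f))),
      fun h => ?_⟩
    haveI : IsIso ((Over.pullback a).map ((Over.pullback (S.fromSpecResidueField t)).map f)) := h
    let ft := (Over.pullback (S.fromSpecResidueField t)).map f
    haveI : IsIso ft.left :=
      MorphismProperty.of_isPullback_of_descendsAlong (P := MorphismProperty.isomorphisms Scheme)
        (Q := @Surjective ⊓ @Flat ⊓ @QuasiCompact) (Deform.Extension.isPullback_map_left a ft)
        (MorphismProperty.pullback_fst _ a ⟨⟨GrpSchLib.surjective_spec_map_field _, GrpSchLib.flat_spec_map_field _⟩, inferInstance⟩)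
        ((Over.forget _).map_isIso ((Over.pullback a).map ft))
    haveI : IsIso ((Over.forget _).map ft) := ‹IsIso ft.left›
    exact isIso_of_reflects_iso ft (Over.forget _)
  -- the fibre at `s`
  haveI hGg : ∀ t : S, IsAffine (Red.geomFibre t G).left := fun t => by
    haveI : IsAffineHom (pullback.snd G.hom (Red.geomPt t)) :=
      MorphismProperty.pullback_snd (P := @IsAffineHom) G.hom _ ‹_›
    exact isAffine_of_isAffineHom (pullback.snd G.hom (Red.geomPt t))
  haveI hGs : ∀ t : S, Smooth (Red.geomFibre t G).hom := fun t =>
    MorphismProperty.pullback_snd (P := @Smooth) G.hom (Red.geomPt t) ‹_›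
  haveI : ConnectedSpace (Red.geomFibre s G).left := Luna.connectedSpace_geom hconn s
  have hiso_s : IsIso ((Over.pullback (Red.geomPt s)).map f) := by
    have hself := Luna.isCentralizerOf_self hs (Borel.isMaxTorus_of_isMaximalTorus hTs)
    obtain ⟨e, he⟩ := Borel.exists_iso_centralizer hself (Borel.isCentralizerOf_bc (Red.geomPt s) hz)
    haveI : Mono ((Over.pullback (Red.geomPt s)).map z) := inferInstance
    rw [show (Over.pullback (Red.geomPt s)).map f = e.hom by
      rw [← cancel_mono ((Over.pullback (Red.geomPt s)).map z), ← Functor.map_comp, hf, he]]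
    infer_instance
  have hdim : ∀ t : S, (dZ t = topologicalKrullDim ↥(pullback Z.hom (S.fromSpecResidueField t))) ∧
      dT t = topologicalKrullDim ↥(pullback T.hom (S.fromSpecResidueField t)) := fun t =>
    ⟨((Z.hom.fiberHomeo t).isHomeomorph.topologicalKrullDim_eq).symm,
      ((T.hom.fiberHomeo t).isHomeomorph.topologicalKrullDim_eq).symm⟩
  have hds : dZ s = dT s := by
    haveI := (hgeo s).mpr hiso_s
    let e := (Over.forget _).mapIso (asIso ((Over.pullback (S.fromSpecResidueField s)).map f))
    rw [(hdim s).1, (hdim s).2]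
    exact (e.hom.homeomorph.isHomeomorph.topologicalKrullDim_eq).symm
  -- all fibres over `U`
  have hfib : ∀ t ∈ U, IsIso ((Over.pullback (S.fromSpecResidueField t)).map f) := by
    rintro t ⟨htT, htZ⟩
    let y := S.fromSpecResidueField t
    let Tt : Over (Spec (CommRingCat.of (S.residueField t))) := Red.bc y T
    let Zt : Over (Spec (CommRingCat.of (S.residueField t))) := Red.bc y Z
    haveI : Smooth Zt.hom := MorphismProperty.pullback_snd (P := @Smooth) Z.hom y hZs
    haveI : LocallyOfFiniteType Tt.hom := inferInstanceAs (LocallyOfFiniteType (pullback.snd T.hom y))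
    haveI : QuasiCompact Tt.hom := inferInstanceAs (QuasiCompact (pullback.snd T.hom y))
    haveI : ConnectedSpace Zt.left := by
      let K := AlgebraicClosure (S.residueField t)
      let a : Spec (CommRingCat.of K) ⟶ Spec (CommRingCat.of (S.residueField t)) :=
        Spec.map (CommRingCat.ofHom (algebraMap (S.residueField t) K))
      haveI : IsAffine (Red.bc (Red.geomPt t) G).left := hGg t
      haveI : Smooth (Red.bc (Red.geomPt t) G).hom := MorphismProperty.pullback_snd (P := @Smooth) G.hom _ ‹_›
      haveI := Luna.connectedSpace_geom hconn t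
      haveI hZc : ConnectedSpace (Red.bc (Red.geomPt t) Z).left :=
        Borel.centralizer_connected (Red.bc (Red.geomPt t) G) (Deform.isTorus_bc (Red.geomPt t) hT)
          (Borel.isCentralizerOf_bc (Red.geomPt t) hz)
      haveI : ConnectedSpace (Red.bc a Zt).left := by
        let e := pullbackLeftPullbackSndIso Z.hom y a
        haveI : ConnectedSpace ↥(pullback Z.hom (a ≫ y)) := hZc
        exact e.inv.homeomorph.surjective.connectedSpace e.inv.homeomorph.continuous
      exact Borel.connectedSpace_of_bc a Zt
    haveI : IsMonHom ((Over.pullback y).map f) := inferInstance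
    haveI : Mono ((Over.pullback y).map f) := inferInstance
    refine isIso_of_dim_eq (T := Tt) (Z := Zt) ((Over.pullback y).map f) ?_ ?_
    · show topologicalKrullDim ↥(pullback Z.hom y) ≠ ⊤
      rw [← (hdim t).1]
      obtain ⟨n, hn⟩ := GrpSchLib.FibreDimGrp.exists_nat Z t
      show topologicalKrullDim ↥(Z.hom ⁻¹' {t}) ≠ ⊤
      rw [hn]
      exact fun h => ENat.coe_ne_top n (WithBot.coe_injective h)
    · show topologicalKrullDim ↥(pullback Z.hom y) = topologicalKrullDim ↥(pullback T.hom y)
      rw [← (hdim t).1, ← (hdim t).2, htT, htZ, hds]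
  -- the restriction to `U`
  let f' := (Over.pullback U.ι).map f
  have hfibU : ∀ u : U, IsIso ((Over.pullback (U.toScheme.fromSpecResidueField u)).map f') := by
    intro u
    show IsIso ((Over.pullback U.ι ⋙ Over.pullback (U.toScheme.fromSpecResidueField u)).map f)
    rw [← NatIso.isIso_map_iff (Over.pullbackComp (U.toScheme.fromSpecResidueField u) U.ι) f]
    suffices key : ∀ g' : Spec (U.toScheme.residueField u) ⟶ S,
        g' = Spec.map (U.ι.residueFieldMap u) ≫ S.fromSpecResidueField (U.ι u) →
        IsIso ((Over.pullback g').map f) from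
      key _ (Scheme.Hom.SpecMap_residueFieldMap_fromSpecResidueField U.ι u).symm
    rintro _ rfl
    rw [NatIso.isIso_map_iff (Over.pullbackComp (Spec.map (U.ι.residueFieldMap u)) (S.fromSpecResidueField (U.ι u))) f]
    haveI := hfib (U.ι u) u.2
    exact (Over.pullback (Spec.map (U.ι.residueFieldMap u))).map_isIso
      ((Over.pullback (S.fromSpecResidueField (U.ι u))).map f)
  haveI : Smooth ((Over.pullback U.ι).obj T).hom := by
    haveI : Smooth T.hom := by
      haveI : LocallyOfFinitePresentation (T.hom ≫ 𝟙 S) := by rw [Category.comp_id]; infer_instance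
      haveI : Flat (T.hom ≫ 𝟙 S) := by rw [Category.comp_id]; infer_instance
      refine FlatMisc.smooth_of_smooth_fibres (𝟙 S) T.hom fun t => ?_
      obtain ⟨-, -, hTs', -⟩ := Deform.TorusBasic.props (Deform.isTorus_bc (S.fromSpecResidueField t) hT)
      let e := pullback.snd (𝟙 S) (S.fromSpecResidueField t)
      suffices key : ∀ g' : (𝟙 S : S ⟶ S).fiber t ⟶ S, g' = e ≫ S.fromSpecResidueField t →
          Smooth (pullback.snd T.hom g') from
        key _ ((Category.comp_id _).symm.trans pullback.condition)
      rintro _ rfl
      rw [← pullbackLeftPullbackSndIso_inv_snd_snd T.hom (S.fromSpecResidueField t) e]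
      haveI : Smooth (pullback.snd T.hom (S.fromSpecResidueField t)) := hTs'
      infer_instance
    exact MorphismProperty.pullback_snd (P := @Smooth) T.hom U.ι inferInstance
  haveI : IsIso f' := by
    haveI : LocallyOfFiniteType ((Over.pullback U.ι).obj Z).hom :=
      inferInstanceAs (LocallyOfFiniteType (pullback.snd Z.hom U.ι))
    haveI : LocallyOfFinitePresentation (f'.left ≫ ((Over.pullback U.ι).obj Z).hom) := by
      rw [Over.w f']; infer_instance
    haveI : Flat (f'.left ≫ ((Over.pullback U.ι).obj Z).hom) := by rw [Over.w f']; infer_instance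
    have hi : ∀ u : U.toScheme, IsIso (pullback.snd f'.left
        (pullback.fst ((Over.pullback U.ι).obj Z).hom (U.toScheme.fromSpecResidueField u))) := fun u => by
      haveI := hfibU u
      haveI : IsIso ((Over.pullback (U.toScheme.fromSpecResidueField u)).map f').left :=
        (Over.forget _).map_isIso ((Over.pullback (U.toScheme.fromSpecResidueField u)).map f')
      rw [← (GrpSchLib.HomFibre.map_isPullback f' (U.toScheme.fromSpecResidueField u)).isoPullback_inv_snd]
      infer_instance
    haveI : IsOpenImmersion f'.left :=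
      FlatMisc.isOpenImmersion_of_fibres ((Over.pullback U.ι).obj Z).hom f'.left fun u => by
        haveI := hi u
        show IsOpenImmersion (pullback.snd f'.left
          (pullback.fst ((Over.pullback U.ι).obj Z).hom (U.toScheme.fromSpecResidueField u)))
        infer_instance
    haveI : Surjective f'.left := ⟨fun p => by
      obtain ⟨q, hq⟩ := FlatMisc.mem_range_fiberι ((Over.pullback U.ι).obj Z).hom _ p rfl
      haveI := hi (((Over.pullback U.ι).obj Z).hom p)
      obtain ⟨r, hr⟩ := (pullback.snd f'.left (pullback.fst ((Over.pullback U.ι).obj Z).hom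
        (U.toScheme.fromSpecResidueField (((Over.pullback U.ι).obj Z).hom p)))).surjective q
      refine ⟨pullback.fst f'.left _ r, ?_⟩
      rw [← Scheme.Hom.comp_apply, pullback.condition, Scheme.Hom.comp_apply, hr]
      exact hq⟩
    haveI : IsIso f'.left := (isIso_iff_isOpenImmersion_and_surjective _).mpr ⟨inferInstance, inferInstance⟩
    haveI : IsIso ((Over.forget _).map f') := ‹IsIso f'.left›
    exact isIso_of_reflects_iso f' (Over.forget _)
  refine ⟨U, ⟨rfl, rfl⟩, ‹IsIso f'›, inferInstance, inferInstance, Deform.isTorus_bc U.ι hT,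
    fun u T' _ j _ _ f₀ hT' hf₀ => ?_⟩
  -- maximality: a larger torus commutes, hence lands in the centralizer
  let b := Red.geomPt u
  let iU := (Over.pullback U.ι).map i
  let zU := (Over.pullback U.ι).map z
  have hzb := Borel.isCentralizerOf_bc b (Borel.isCentralizerOf_bc U.ι hz)
  obtain ⟨w, hw⟩ := (hzb.2.2 T' j).mpr fun X x h => by
    rw [← hf₀, ← Category.assoc, ← MonObj.mul_comp, ← MonObj.mul_comp,
      GrpSchLib.MultTypeComm.points_comm (Deform.isMultTypeFT_of_isTorus hT') x (h ≫ f₀)]
  let w' : T' ⟶ Red.geomFibre u (Red.bc U.ι T) := w ≫ inv ((Over.pullback b).map f')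
  have hw' : w' ≫ (Over.pullback b).map iU = j := by
    rw [show (Over.pullback b).map iU = (Over.pullback b).map f' ≫ (Over.pullback b).map zU by
      rw [← Functor.map_comp, ← Functor.map_comp, hf], Category.assoc, IsIso.inv_hom_id_assoc]
    exact hw
  haveI : Mono ((Over.pullback b).map iU) := inferInstance
  exact ⟨w', by rw [← cancel_mono ((Over.pullback b).map iU), Category.assoc, hw', hf₀, Category.id_comp],
    by rw [← cancel_mono j, Category.assoc, hf₀, hw', Category.id_comp]⟩

end Groth.Agent.Deform.CartanNorm
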